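/-
The least order of a group whose Sylow p-subgroups are not normal.
-/
import Cfsg.Agent.S4441
import Cfsg.Agent.Lib.Solvable.Coprime
import Cfsg.Agent.Lib.Transfer.Fusion
import Cfsg.Agent.Lib.Char.GlaubermanMod
import Cfsg.Agent.Lib.Classical.ProjLine
import Cfsg.Prelude.Def_LocalStructure
import Mathlib.GroupTheory.SemidirectProduct
import Mathlib.FieldTheory.Finite.GaloisField

set_option linter.unusedSectionVars false
set_option linter.style.haveILetI false

namespace Cfsg.Agent.NonPClosed

open Cfsg Cfsg.Agent.Char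
open scoped Pointwise

variable {p : ℕ} [hp : Fact p.Prime]

theorem closed_iff {H : Type*} [Group H] [Finite H] (P : Sylow p H) :
    IsPClosed p H ↔ (P : Subgroup H).Normal :=
  ⟨fun h => h P, fun h Q => by
    haveI := h
    haveI := Sylow.unique_of_normal P h
    rw [Subsingleton.elim Q P]; exact h⟩

/-- A group with a normal subgroup containing a Sylow subgroup and closed is closed. -/
theorem closed_of_normal {H : Type*} [Group H] [Finite H] (P : Sylow p H) (K : Subgroup H)
    [K.Normal] (hPK : (P : Subgroup H) ≤ K) (h : IsPClosed p K) : IsPClosed p H := by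
  rw [closed_iff P]
  let P' : Sylow p K := P.subtype hPK
  haveI : (P' : Subgroup K).Characteristic := P'.characteristic_of_normal (h P')
  have hmap : ((P' : Subgroup K).map K.subtype) = (P : Subgroup H) := by
    rw [Sylow.coe_subtype, Subgroup.map_subgroupOf_eq_of_le hPK]
  rw [← hmap]
  infer_instance

section Simple

variable {H : Type*} [Group H] [Fintype H]

theorem false_of_simple [IsSimpleGroup H] (hp2 : p ≠ 2) (P : Sylow p H)
    (hP : Nat.card (P : Subgroup H) = p) (hnc : ¬ IsPClosed p H)
    (hsmall : 2 * Nat.card H < p * (p ^ 2 - 1)) : False := by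
  classical
  have hp3 : 3 ≤ p := by have := hp.out.two_le; omega
  obtain ⟨M, hM⟩ := GlaubermanMod.exists_isPModular p
  haveI : M.IsPrime := hM.2.1.isPrime
  set N := Subgroup.normalizer ((P : Subgroup H) : Set H) with hN
  set C := Subgroup.centralizer ((P : Subgroup H) : Set H) with hC
  set e := C.relIndex N with he
  have hCN : C ≤ N := Subgroup.centralizer_le_normalizer _
  have hPC : (P : Subgroup H) ≤ C := by
    haveI : IsCyclic (P : Subgroup H) := isCyclic_of_prime_card hP
    intro x hx
    rw [hC, Subgroup.mem_centralizer_iff]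
    intro y hy
    letI := IsCyclic.commGroup (α := (P : Subgroup H))
    exact congrArg Subtype.val (mul_comm (⟨y, hy⟩ : (P : Subgroup H)) ⟨x, hx⟩)
  obtain ⟨c, hc⟩ : p ∣ Nat.card C := hP ▸ Subgroup.card_dvd_of_le hPC
  have hNcard : Nat.card N = p * c * e := by
    have h := (C.subgroupOf N).card_mul_index
    rw [Nat.card_congr (Subgroup.subgroupOfEquivOfLe hCN).toEquiv, hc] at h
    exact h.symm
  set n := Nat.card (Sylow p H) with hn
  have hH : Nat.card H = p * (c * e * n) := by
    have hidx : n = N.index := by rw [hn, Sylow.card_eq_index_normalizer P]; rfl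
    rw [hidx, ← N.card_mul_index, hNcard]; ring
  have hn1 : n ≡ 1 [MOD p] := card_sylow_modEq_one p H
  have hne1 : n ≠ 1 := by
    intro h
    apply hnc
    haveI : Subsingleton (Sylow p H) := (Nat.card_eq_one_iff_unique.1 h).1
    rw [closed_iff P]
    infer_instance
  have hnpos : 0 < n := Nat.card_pos
  have hc0 : 0 < c := by
    rcases Nat.eq_zero_or_pos c with h | h
    · rw [h, mul_zero] at hc; exact absurd hc Nat.card_pos.ne'
    · exact h
  have he0 : 0 < e := by
    rcases Nat.eq_zero_or_pos e with h | h
    · rw [h, mul_zero] at hNcard; exact absurd hNcard Nat.card_pos.ne'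
    · exact h
  have hnp : p + 1 ≤ n := by
    obtain ⟨k, hk⟩ := (Nat.modEq_iff_dvd' hnpos).1 hn1.symm
    rcases Nat.eq_zero_or_pos k with h | h
    · rw [h, mul_zero] at hk; omega
    · have : p ≤ p * k := Nat.le_mul_of_pos_right p h; omega
  have hbound : 2 * (c * e * n) < p * p - 1 := by
    rw [hH, pow_two] at hsmall
    have h2 : p * (2 * (c * e * n)) < p * (p * p - 1) := by linarith
    exact Nat.lt_of_mul_lt_mul_left h2
  have hce : 2 * (c * e) < p := by
    have h1 : 2 * (c * e) * (p + 1) ≤ 2 * (c * e * n) :=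
      le_trans (Nat.mul_le_mul_left _ hnp) (le_of_eq (by ring))
    have h2 : 2 * (c * e) * (p + 1) < p * (p + 1) := by
      have : p * p - 1 ≤ p * (p + 1) := by rw [mul_add]; omega
      omega
    exact Nat.lt_of_mul_lt_mul_right h2
  have he2 : 2 ≤ e := by
    by_contra h
    have h1 : e = 1 := by omega
    have hle : N ≤ C := Subgroup.relIndex_eq_one.1 h1
    obtain ⟨Q, K, hK, hKQ⟩ := Fusion.hasNormalPComplement_of_normalizer_le_centralizer P hle
    rcases hK.eq_bot_or_eq_top with rfl | rfl
    · apply hnc
      rw [closed_iff Q]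
      have hQ : (Q : Subgroup H) = ⊤ := Subgroup.isComplement'_bot_left.1 hKQ
      rw [hQ]; infer_instance
    · have hQ : (Q : Subgroup H) = ⊥ := Subgroup.isComplement'_top_left.1 hKQ
      have h' := Nat.card_congr ((P.equiv Q).toEquiv)
      rw [hP, hQ, Subgroup.card_bot] at h'
      omega
  have hep : e < p - 1 := by
    have : e ≤ c * e := Nat.le_mul_of_pos_left e hc0
    omega
  obtain ⟨X, Y, hXY, hdisj, hX, hY, εX, ε, hXp, hε, hYp, -, hrel⟩ :=
    Cfsg.Agent.S4441.result p M hM hp2 P hP e rfl
  have hpz : (3 : ℤ) ≤ p := by exact_mod_cast hp3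
  have hone : charDegree ((principal H : IrrCharacter H) : H → ℂ) = 1 := by
    have h : (1 : ℂ) = (charDegree ((principal H : IrrCharacter H) : H → ℂ) : ℂ) :=
      Blocks.irr_one_eq_charDegree (principal H)
    exact_mod_cast h.symm
  have hprin : principal H ∈ X := by
    have hmem : principal H ∈ X ∪ Y := hXY ▸ Blocks.principal_mem_principalBlock
    rcases hmem with h | h
    · exact h
    · exfalso
      have h' := hYp _ h
      rw [hone, Int.modEq_iff_dvd] at h'
      rcases hε with rfl | rfl
      · have := Int.le_of_dvd (by omega) h'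
        omega
      · have := Int.le_of_dvd (by omega : (0 : ℤ) < e + 1) (by
          have := dvd_neg.2 h'
          simpa [neg_sub, add_comm] using this)
        omega
  have hp1 : εX (principal H) = 1 := by
    obtain ⟨h1, h2, -⟩ := hXp _ hprin
    rcases h1 with h | h
    · exact h
    · rw [hone, h, Int.modEq_iff_dvd] at h2
      have := Int.le_of_dvd (by norm_num : (0 : ℤ) < 2) (dvd_neg.1 (by simpa using h2))
      omega
  have hdvd : ∀ χ : IrrCharacter H, ¬ p ∣ charDegree (χ : H → ℂ) →
      charDegree (χ : H → ℂ) ∣ c * e * n := by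
    intro χ hχ
    have h := degree_dvd_card χ.2 (Blocks.irr_one_eq_charDegree χ)
    rw [hH] at h
    exact ((Nat.Prime.coprime_iff_not_dvd hp.out).2 hχ).symm.dvd_of_dvd_mul_left h
  have hlin : ∀ χ : IrrCharacter H, charDegree (χ : H → ℂ) = 1 → χ = principal H := by
    intro χ hχ
    have h1 : (χ : H → ℂ) 1 = 1 := by rw [Blocks.irr_one_eq_charDegree, hχ, Nat.cast_one]
    obtain ⟨f, hf⟩ := exists_hom_of_degree_one (Blocks.irr_isCharacter χ) h1
    rcases (MonoidHom.normal_ker f).eq_bot_or_eq_top with h | h
    · exfalso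
      apply hnc
      rw [closed_iff P]
      exact ⟨fun x hx g => by
        rwa [show g * x * g⁻¹ = x from (MonoidHom.ker_eq_bot_iff f).1 h (by
          rw [map_mul, map_mul, mul_comm (f g), mul_assoc, ← map_mul, mul_inv_cancel, map_one,
            mul_one])]⟩
    · refine Subtype.ext ?_
      rw [hf]
      funext g
      show (f g : ℂ) = 1
      rw [MonoidHom.mem_ker.1 (h ▸ Subgroup.mem_top g : g ∈ f.ker), Units.val_one]
  have hother : ∀ χ ∈ X, χ ≠ principal H → εX χ = 1 ∧ charDegree (χ : H → ℂ) = n := by
    intro χ hχ hne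
    obtain ⟨h1, h2, -⟩ := hXp χ hχ
    set f := charDegree (χ : H → ℂ) with hf
    have hf1 : f ≠ 1 := fun h => hne (hlin χ h)
    have hfpos : 0 < f := Blocks.charDegree_pos χ
    have hnd : ¬ p ∣ f := by
      intro h
      have h3 : ((p : ℤ)) ∣ εX χ := by
        have := (Int.modEq_iff_dvd.1 h2)
        simpa using dvd_add this (Int.natCast_dvd_natCast.2 h)
      rcases h1 with e1 | e1 <;> rw [e1] at h3
      · have := Int.le_of_dvd one_pos h3; omega
      · have := Int.le_of_dvd one_pos (dvd_neg.1 h3); omega
    obtain ⟨b, hb⟩ := hdvd χ hnd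
    rw [← hf] at hb
    have hb0 : 0 < b := Nat.pos_of_ne_zero fun h => by
      rw [h, mul_zero] at hb
      exact absurd hb (Nat.mul_pos (Nat.mul_pos hc0 he0) hnpos).ne'
    have hcong : ((c * e : ℕ) : ℤ) ≡ εX χ * b [ZMOD p] := by
      have hn1' : ((n : ℕ) : ℤ) ≡ 1 [ZMOD p] := by exact_mod_cast Int.natCast_modEq_iff.2 hn1
      have h3 : ((c * e : ℕ) : ℤ) * (n : ℤ) ≡ εX χ * b [ZMOD p] := by
        have : ((c * e : ℕ) : ℤ) * (n : ℤ) = (f : ℤ) * b := by exact_mod_cast hb
        rw [this]
        exact h2.mul_right _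
      have h4 := (hn1'.mul_left ((c * e : ℕ) : ℤ))
      rw [mul_one] at h4
      exact h4.symm.trans h3
    have hfge : p - 1 ≤ f := by
      have h3 := Int.modEq_iff_dvd.1 h2
      rcases h1 with e1 | e1 <;> rw [e1] at h3
      · have h5 : ((p : ℤ)) ∣ (f : ℤ) - 1 := by
          have := dvd_neg.2 h3; simpa using this
        have := Int.le_of_dvd (by omega) h5
        omega
      · have h5 : ((p : ℤ)) ∣ (f : ℤ) + 1 := by
          have := dvd_neg.2 h3; simpa [add_comm] using this
        have := Int.le_of_dvd (by omega) h5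
        omega
    have hble : 2 * b < p + 1 := by
      have h5 : 2 * b * (p - 1) ≤ 2 * (c * e * n) := by
        rw [hb]
        calc 2 * b * (p - 1) ≤ 2 * b * f := Nat.mul_le_mul_left _ hfge
          _ = 2 * (f * b) := by ring
      have h6 : p * p - 1 = (p + 1) * (p - 1) := by
        simpa [pow_two] using Nat.sq_sub_sq p 1
      exact Nat.lt_of_mul_lt_mul_right (lt_of_le_of_lt h5 (h6 ▸ hbound))
    rcases h1 with e1 | e1
    · refine ⟨e1, ?_⟩
      rw [e1, one_mul, Int.natCast_modEq_iff] at hcong
      have heq : c * e = b := hcong.eq_of_lt_of_lt (by omega) (by omega)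
      rw [← heq, mul_comm f] at hb
      exact (Nat.eq_of_mul_eq_mul_left (Nat.mul_pos hc0 he0) hb).symm
    · exfalso
      rw [e1, neg_one_mul, Int.modEq_iff_dvd] at hcong
      have h5 : p ∣ c * e + b := by
        have := dvd_neg.2 hcong
        rw [show -(-(b : ℤ) - ((c * e : ℕ) : ℤ)) = ((c * e + b : ℕ) : ℤ) by push_cast; ring] at this
        exact Int.natCast_dvd_natCast.1 this
      obtain ⟨q, hq⟩ := h5
      rcases q with _ | _ | q
      · simp at hq; omega
      · omega
      · rw [mul_add, mul_add, mul_one] at hq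
        omega
  obtain ⟨θ, hθ⟩ : Y.Nonempty := by
    by_contra h
    rw [Set.not_nonempty_iff_eq_empty] at h
    rw [h] at hY
    have hed : e ≤ p - 1 := hep.le
    have := Nat.div_pos hed he0
    simp at hY
    omega
  set d := charDegree (θ : H → ℂ) with hd
  have hr := hrel θ hθ 1 (by rw [orderOf_one]; exact hp.out.not_dvd_one)
  rw [finsum_mem_eq_finite_toFinset_sum _ (Set.toFinite X),
    ← Finset.add_sum_erase _ _ ((Set.Finite.mem_toFinset _).2 hprin), hp1,
    Finset.sum_congr rfl (fun χ hχ => by
      obtain ⟨hne, hmem⟩ := Finset.mem_erase.1 hχ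
      obtain ⟨a1, a2⟩ := hother χ ((Set.Finite.mem_toFinset _).1 hmem) hne
      rw [a1, Blocks.irr_one_eq_charDegree, a2] :
      ∀ χ ∈ (Set.toFinite X).toFinset.erase (principal H),
        (εX χ : ℂ) * (χ : H → ℂ) 1 = ((1 : ℤ) : ℂ) * (n : ℂ)),
    Finset.sum_const, Finset.card_erase_of_mem ((Set.Finite.mem_toFinset _).2 hprin),
    ← Set.ncard_eq_toFinset_card X, ← Nat.card_coe_set_eq, hX,
    Blocks.irr_one_eq_charDegree, Blocks.irr_one_eq_charDegree, hone, ← hd] at hr
  have hεd : ε * (d : ℤ) = 1 + ((e - 1 : ℕ) : ℤ) * n := by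
    have : ((ε * (d : ℤ) : ℤ) : ℂ) = ((1 + ((e - 1 : ℕ) : ℤ) * n : ℤ) : ℂ) := by
      push_cast
      simpa [nsmul_eq_mul] using hr
    exact_mod_cast this
  have hdeq : d = 1 + (e - 1) * n := by
    rcases hε with rfl | rfl
    · rw [one_mul] at hεd; exact_mod_cast hεd
    · exfalso
      have : (0 : ℤ) ≤ ((e - 1 : ℕ) : ℤ) * n := by positivity
      omega
  have hdn : Nat.Coprime d n := by
    rw [hdeq, Nat.coprime_add_mul_right_left]
    exact Nat.coprime_one_left n
  have hdp : ¬ p ∣ d := by
    intro h
    have h' := Int.modEq_iff_dvd.1 (hYp θ hθ)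
    rw [← hd] at h'
    have h3 : (p : ℤ) ∣ ε * e := by simpa using dvd_add h' (Int.natCast_dvd_natCast.2 h)
    have h4 : p ∣ e := by
      rcases hε with rfl | rfl
      · rw [one_mul] at h3; exact Int.natCast_dvd_natCast.1 h3
      · rw [neg_one_mul, dvd_neg] at h3; exact Int.natCast_dvd_natCast.1 h3
    have := Nat.le_of_dvd he0 h4
    omega
  have hdvd' := Nat.le_of_dvd (Nat.mul_pos hc0 he0) (hdn.dvd_of_dvd_mul_right (hdvd θ hdp))
  have : n ≤ (e - 1) * n := Nat.le_mul_of_pos_left n (by omega)
  omega

end Simple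

theorem le_card {m : ℕ} (hp2 : p ≠ 2)
    (hleast : ∀ k : ℕ, IsPrimePow k → k % p = 1 → m ≤ k) : ∀ (b : ℕ) (H : Type) [Group H]
    [Finite H], Nat.card H ≤ b → ¬ IsPClosed p H → 2 * Nat.card H < p * (p ^ 2 - 1) →
    p * m ≤ Nat.card H := by
  classical
  intro b
  induction b with
  | zero => intro H _ _ h; exact absurd (Nat.le_zero.1 h) Nat.card_pos.ne'
  | succ b ih =>
    intro H _ _ hb hnc hsmall
    obtain ⟨P⟩ : Nonempty (Sylow p H) := inferInstance
    haveI := Fintype.ofFinite H
    have hrec : ∀ (K : Type) [Group K] [Finite K], Nat.card K < Nat.card H → ¬ IsPClosed p K →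
        p * m ≤ Nat.card H := fun K _ _ hlt hK =>
      (ih K (by omega) hK (by omega)).trans hlt.le
    have hp3 : 3 ≤ p := by have := hp.out.two_le; omega
    -- order of the Sylow subgroup
    have hP : Nat.card (P : Subgroup H) = p := by
      set n := Nat.card (Sylow p H) with hn
      have hn1 : n ≡ 1 [MOD p] := card_sylow_modEq_one p H
      have hne : n ≠ 1 := by
        intro h
        apply hnc
        haveI : Subsingleton (Sylow p H) := (Nat.card_eq_one_iff_unique.1 h).1
        rw [closed_iff P]
        infer_instance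
      have hnp : p + 1 ≤ n := by
        obtain ⟨k, hk⟩ := (Nat.modEq_iff_dvd' (Nat.card_pos : 0 < n)).1 hn1.symm
        rcases Nat.eq_zero_or_pos k with h | h
        · rw [h, mul_zero] at hk; have : 0 < n := Nat.card_pos; omega
        · have : p ≤ p * k := Nat.le_mul_of_pos_right p h; omega
      have hle : Nat.card (P : Subgroup H) * n ≤ Nat.card H := by
        have h1 : (P : Subgroup H) ≤ Subgroup.normalizer ((P : Subgroup H) : Set H) :=
          Subgroup.le_normalizer
        calc Nat.card (P : Subgroup H) * n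
            ≤ Nat.card (Subgroup.normalizer ((P : Subgroup H) : Set H)) * n :=
              Nat.mul_le_mul_right _ (Subgroup.card_le_of_le h1)
          _ = Nat.card H := by
              rw [hn, Sylow.card_eq_index_normalizer P]; exact Subgroup.card_mul_index _
      obtain ⟨a, ha⟩ := IsPGroup.iff_card.1 P.isPGroup'
      rcases a with _ | _ | a
      · exfalso
        apply hnc
        have hb' : (P : Subgroup H) = ⊥ := Subgroup.eq_bot_of_card_eq _ (by rw [ha, pow_zero])
        rw [closed_iff P, hb']
        infer_instance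
      · rw [ha, zero_add, pow_one]
      · exfalso
        have h2 : p * p * (p + 1) ≤ Nat.card H := by
          refine le_trans (Nat.mul_le_mul ?_ hnp) hle
          rw [ha, ← pow_two]
          exact Nat.pow_le_pow_right hp.out.pos (by omega)
        have h3 : p * (p ^ 2 - 1) ≤ p * (p * (p + 1)) := by
          refine Nat.mul_le_mul_left _ ?_
          rw [pow_two, mul_add]; omega
        rw [← mul_assoc] at h3
        omega
    by_cases hN : ∃ N : Subgroup H, N.Normal ∧ N ≠ ⊥ ∧ ¬ p ∣ Nat.card N
    · obtain ⟨N, hNn, hN1, hNp⟩ := hN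
      haveI := hNn
      by_cases hq : IsPClosed p (H ⧸ N)
      swap
      · refine hrec (H ⧸ N) ?_ hq
        rw [Subgroup.card_eq_card_quotient_mul_card_subgroup N]
        exact lt_mul_of_one_lt_right Nat.card_pos ((Subgroup.one_lt_card_iff_ne_bot N).2 hN1)
      set K := (P : Subgroup H) ⊔ N with hK
      haveI hKn : K.Normal := by
        have h : ((P.mapSurjective (QuotientGroup.mk'_surjective N) : Sylow p (H ⧸ N)) :
            Subgroup (H ⧸ N)).Normal := hq _
        rw [Sylow.coe_mapSurjective] at h
        rw [hK, ← QuotientGroup.ker_mk' N, ← Subgroup.comap_map_eq]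
        exact h.comap _
      have hKnc : ¬ IsPClosed p K := fun h => hnc (closed_of_normal P K le_sup_left h)
      by_cases hKt : K = ⊤
      swap
      · refine hrec K ?_ hKnc
        exact lt_of_le_of_ne (Subgroup.card_le_card_group K)
          fun h => hKt (Subgroup.eq_top_of_card_eq K h)
      have hcop : (Nat.card (P : Subgroup H)).Coprime (Nat.card N) := by
        rw [hP]; exact (Nat.Prime.coprime_iff_not_dvd hp.out).2 hNp
      have hcardH : Nat.card H = p * Nat.card N := by
        have hdisj : Disjoint (P : Subgroup H) N := Subgroup.disjoint_of_coprime_natCard hcop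
        have hprod : Subgroup.IsComplement' (P : Subgroup H) N := by
          refine Subgroup.isComplement'_of_disjoint_and_mul_eq_univ hdisj ?_
          rw [← Subgroup.mul_normal, ← hK, hKt, Subgroup.coe_top]
        rw [← hprod.card_mul, hP]
      set F := N ⊓ Subgroup.centralizer ((P : Subgroup H) : Set H) with hF
      have hFne : F ≠ N := by
        intro h
        apply hnc
        rw [closed_iff P, ← Subgroup.normalizer_eq_top_iff, eq_top_iff, ← hKt, hK]
        refine sup_le Subgroup.le_normalizer ?_
        have hle : F ≤ Subgroup.centralizer ((P : Subgroup H) : Set H) := inf_le_right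
        rw [h] at hle
        exact hle.trans (Subgroup.centralizer_le_normalizer _)
      have hcyc : IsCyclic (P : Subgroup H) := isCyclic_of_prime_card hP
      have hAK : (P : Subgroup H) ≤ Subgroup.normalizer (N : Set H) := by
        rw [Subgroup.normalizer_eq_top]; exact le_top
      by_cases hqN : ∀ q : ℕ, q.Prime → ∀ Q : Sylow q N, (Q : Subgroup N) ≠ ⊤
      · -- every invariant Sylow subgroup is proper
        by_contra hcase
        apply hFne
        refine le_antisymm inf_le_left ?_
        have hdvd : Nat.card N ∣ Nat.card F := by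
          rw [Nat.dvd_iff_prime_pow_dvd_dvd]
          intro q k hq hk
          haveI : Fact q.Prime := ⟨hq⟩
          obtain ⟨Q, hQ⟩ := CoprimeAct.exists_invariant_sylow hAK hcop
            (Or.inl inferInstance) q
          set Q' := (Q : Subgroup N).map N.subtype with hQ'
          refine (Nat.dvd_trans ?_ (Subgroup.card_dvd_of_le (show Q' ≤ F from ?_)))
          · rw [hQ', Subgroup.card_map_of_injective Subtype.coe_injective, Q.card_eq_multiplicity]
            exact Nat.pow_dvd_pow q ((Nat.Prime.pow_dvd_iff_le_factorization hq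
              Nat.card_pos.ne').1 hk)
          · have hQN : Q' ≤ N := Subgroup.map_subtype_le _
            refine le_inf hQN ?_
            set J := (P : Subgroup H) ⊔ Q' with hJ
            have hQlt : Nat.card Q' < Nat.card N := by
              rw [hQ', Subgroup.card_map_of_injective Subtype.coe_injective]
              exact lt_of_le_of_ne (Subgroup.card_le_card_group _)
                fun h => hqN q hq Q (Subgroup.eq_top_of_card_eq _ h)
            have hJcard : Nat.card J ∣ p * Nat.card Q' ∧ Nat.card J < Nat.card H := by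
              have h : Nat.card (Q' ⊔ (P : Subgroup H) : Subgroup H) =
                  Nat.card Q' * Nat.card (P : Subgroup H) :=
                SchurZ.card_sup hQ (hcop.coprime_dvd_right (Subgroup.card_dvd_of_le hQN))
              rw [hJ, sup_comm, h, hP, mul_comm]
              exact ⟨dvd_rfl, hcardH ▸ Nat.mul_lt_mul_of_pos_left hQlt hp.out.pos⟩
            by_cases hJc : IsPClosed p J
            · intro x hx
              rw [Subgroup.mem_centralizer_iff]
              intro y hy
              have hnorm : ((P.subtype (le_sup_left : (P : Subgroup H) ≤ J)) : Subgroup J).Normal :=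
                hJc _
              have hxJ : x ∈ J := Subgroup.mem_sup_right hx
              have hyJ : y ∈ J := Subgroup.mem_sup_left hy
              have h1 : x * y * x⁻¹ ∈ (P : Subgroup H) :=
                hnorm.conj_mem ⟨y, hyJ⟩ (Subgroup.mem_subgroupOf.2 hy) ⟨x, hxJ⟩
              have h2 : x * y * x⁻¹ * y⁻¹ ∈ (P : Subgroup H) ⊓ N :=
                Subgroup.mem_inf.2 ⟨mul_mem h1 (inv_mem hy), by
                  rw [show x * y * x⁻¹ * y⁻¹ = x * (y * x⁻¹ * y⁻¹) by group]
                  exact N.mul_mem (hQN hx) (hNn.conj_mem _ (N.inv_mem (hQN hx)) y)⟩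
              rw [(Subgroup.disjoint_of_coprime_natCard hcop).eq_bot, Subgroup.mem_bot,
                mul_inv_eq_one, mul_inv_eq_iff_eq_mul] at h2
              exact h2.symm
            · exact absurd ((ih J (by omega) hJc (by omega)).trans hJcard.2.le)
                (fun hle => hcase hle)
        exact (Subgroup.eq_of_le_of_card_ge inf_le_left
          (Nat.le_of_dvd Nat.card_pos hdvd)).symm.le
      · push Not at hqN
        obtain ⟨q, hq, Q, hQ⟩ := hqN
        haveI : Fact q.Prime := ⟨hq⟩
        have hNq : IsPGroup q N := by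
          have := Q.isPGroup'
          rw [hQ] at this
          exact this.of_equiv Subgroup.topEquiv
        letI : MulAction (P : Subgroup H) N :=
          { smul := fun u x => ⟨(u : H) * x * (u : H)⁻¹, hNn.conj_mem _ x.2 _⟩
            one_smul := fun x => Subtype.ext (by show ((1 : (P : Subgroup H)) : H) * x * _ = x; simp)
            mul_smul := fun u v x => Subtype.ext (by
              show ((u * v : (P : Subgroup H)) : H) * x * _ = (u : H) * ((v : H) * x * _) * _
              simp [mul_assoc]) }
        have hmod := P.isPGroup'.card_modEq_card_fixedPoints N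
        have hfix : Nat.card (MulAction.fixedPoints (P : Subgroup H) N) = Nat.card F := by
          refine Nat.card_congr
            { toFun := fun x => ⟨(x.1 : H), x.1.2, fun u hu => ?_⟩
              invFun := fun x => ⟨⟨(x : H), x.2.1⟩, fun u => Subtype.ext ?_⟩
              left_inv := fun x => rfl
              right_inv := fun x => rfl }
          · have := congrArg Subtype.val (x.2 ⟨u, hu⟩)
            exact mul_inv_eq_iff_eq_mul.1 this
          · show (u : H) * x * (u : H)⁻¹ = x
            exact mul_inv_eq_iff_eq_mul.2 (x.2.2 u u.2)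
        rw [hfix] at hmod
        obtain ⟨i, hi⟩ := IsPGroup.iff_card.1 hNq
        obtain ⟨j, hji, hj⟩ := (Nat.dvd_prime_pow hq).1
          (hi ▸ Subgroup.card_dvd_of_le (inf_le_left : F ≤ N))
        have hlt : j < i := lt_of_le_of_ne hji fun h => hFne
          (Subgroup.eq_of_le_of_card_ge inf_le_left (by rw [hi, hj, h]))
        rw [hi, hj] at hmod
        have hqp : q ≠ p := fun h => hNp (h ▸ hi ▸ dvd_pow_self q (by omega))
        have hmod' : q ^ (i - j) ≡ 1 [MOD p] := by
          refine Nat.ModEq.cancel_left_of_coprime (c := q ^ j) ?_ ?_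
          · exact ((Nat.coprime_primes hp.out hq).2 (Ne.symm hqp)).pow_right j
          · rw [← pow_add, Nat.add_sub_cancel' hji, mul_one]
            exact hmod
        have hm := hleast (q ^ (i - j)) ⟨q, i - j, hq.prime, by omega, rfl⟩ (by
          rw [hmod']; exact Nat.mod_eq_of_lt hp.out.one_lt)
        rw [hcardH, hi]
        exact Nat.mul_le_mul_left p (hm.trans (Nat.pow_le_pow_right hq.pos (Nat.sub_le i j)))
    · push Not at hN
      by_cases hsimple : ∀ N : Subgroup H, N.Normal → N = ⊥ ∨ N = ⊤
      · exfalso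
        haveI : Nontrivial H := by
          by_contra h
          rw [not_nontrivial_iff_subsingleton] at h
          exact hnc (fun Q => ⟨fun x hx g => by rwa [Subsingleton.elim (g * x * g⁻¹) x]⟩)
        haveI : IsSimpleGroup H := ⟨hsimple⟩
        exact false_of_simple hp2 P hP hnc hsmall
      · push Not at hsimple
        obtain ⟨N, hNn, hN1, hN2⟩ := hsimple
        haveI := hNn
        have hpN := hN N hNn hN1
        have hPN : (P : Subgroup H) ≤ N := by
          obtain ⟨x, hx⟩ := exists_prime_orderOf_dvd_card' (G := N) p hpN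
          obtain ⟨R, hR⟩ := (IsPGroup.of_card (G := Subgroup.zpowers (x : H)) (n := 1)
            (by rw [Nat.card_zpowers, Subgroup.orderOf_coe, hx, pow_one])).exists_le_sylow
          have hRN : (R : Subgroup H) ≤ N := by
            have hcard : Nat.card (R : Subgroup H) = p := by rw [R.card_eq_multiplicity, ← P.card_eq_multiplicity, hP]
            rw [← Subgroup.eq_of_le_of_card_ge hR (by
              rw [Nat.card_zpowers, Subgroup.orderOf_coe, hx, hcard])]
            exact Subgroup.zpowers_le.2 x.2
          obtain ⟨g, hg⟩ := MulAction.exists_smul_eq H R P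
          rw [← hg, Sylow.coe_subgroup_smul]
          exact (Subgroup.pointwise_smul_le_pointwise_smul_iff.2 hRN).trans
            (le_of_eq (Subgroup.Normal.conjAct inferInstance g))
        refine hrec N ?_ fun h => hnc (closed_of_normal P N hPN h)
        exact lt_of_le_of_ne (Subgroup.card_le_card_group N)
          fun h => hN2 (Subgroup.eq_top_of_card_eq N h)

open Matrix in
theorem exists_psl (hp2 : p ≠ 2) : ∃ (H : Type) (_ : Group H) (_ : Finite H),
    Nat.card H = p * (p ^ 2 - 1) / 2 ∧ ¬ IsPClosed p H := by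
  classical
  have hp3 : 3 ≤ p := by have := hp.out.two_le; omega
  refine ⟨ProjectiveSpecialLinearGroup (Fin 2) (ZMod p), inferInstance, inferInstance, ?_⟩
  have h := ProjLine.two_mul_card_psl (F := ZMod p)
  rw [Nat.card_zmod] at h
  have hgcd : Nat.gcd 2 (p - 1) = 2 := by
    refine Nat.gcd_eq_left ?_
    rcases hp.out.eq_two_or_odd with h2 | h2
    · exact absurd h2 hp2
    · omega
  rw [hgcd] at h
  set K := Nat.card (ProjectiveSpecialLinearGroup (Fin 2) (ZMod p)) with hK
  have h2K : 2 * K = p * (p ^ 2 - 1) := by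
    refine Nat.eq_of_mul_eq_mul_right (show 0 < p - 1 by omega) ?_
    rw [h, show p ^ 2 - 1 = (p + 1) * (p - 1) by simpa [pow_two] using Nat.sq_sub_sq p 1]
    ring
  refine ⟨by omega, fun hcl => ?_⟩
  obtain ⟨P⟩ : Nonempty (Sylow p (ProjectiveSpecialLinearGroup (Fin 2) (ZMod p))) := inferInstance
  haveI := hcl P
  haveI := Sylow.unique_of_normal P (hcl P)
  have hP : Nat.card (P : Subgroup (ProjectiveSpecialLinearGroup (Fin 2) (ZMod p))) = p := by
    have hd := Subgroup.card_subgroup_dvd_card (P : Subgroup (ProjectiveSpecialLinearGroup (Fin 2) (ZMod p)))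
    obtain ⟨a, ha⟩ := IsPGroup.iff_card.1 P.isPGroup'
    have hpK : p ∣ K := by
      have : p ∣ 2 * K := ⟨_, h2K⟩
      exact ((Nat.coprime_primes hp.out Nat.prime_two).2 hp2).dvd_of_dvd_mul_left this
    have hp1 : p ∣ Nat.card (P : Subgroup (ProjectiveSpecialLinearGroup (Fin 2) (ZMod p))) := P.dvd_card_of_dvd_card hpK
    rcases a with _ | _ | a
    · rw [ha, pow_zero] at hp1; exact absurd hp1 hp.out.not_dvd_one
    · rw [ha, zero_add, pow_one]
    · exfalso
      rw [ha, ← hK] at hd
      have h4 : p * p ∣ p * (p ^ 2 - 1) := by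
        rw [← h2K, ← pow_two]
        exact (Nat.pow_dvd_pow p (show 2 ≤ a + 1 + 1 by omega)).trans (hd.mul_left 2)
      have h5 : p ∣ p ^ 2 - 1 := Nat.dvd_of_mul_dvd_mul_left hp.out.pos h4
      have h6 : p ∣ 1 := by
        have h7 : 1 ≤ p ^ 2 := Nat.one_le_pow _ _ hp.out.pos
        have := Nat.dvd_sub (dvd_pow_self p two_ne_zero : p ∣ p ^ 2) h5
        rwa [Nat.sub_sub_self h7] at this
      exact hp.out.not_dvd_one h6
  let u : SpecialLinearGroup (Fin 2) (ZMod p) := ⟨!![1, 1; 0, 1], by simp [Matrix.det_fin_two]⟩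
  let l : SpecialLinearGroup (Fin 2) (ZMod p) := ⟨!![1, 0; 1, 1], by simp [Matrix.det_fin_two]⟩
  have hmem : ∀ g : SpecialLinearGroup (Fin 2) (ZMod p), g ^ p = 1 →
      (QuotientGroup.mk g : ProjectiveSpecialLinearGroup (Fin 2) (ZMod p)) ∈ (P : Subgroup (ProjectiveSpecialLinearGroup (Fin 2) (ZMod p))) := by
    intro g hg
    have hpg : IsPGroup p (Subgroup.zpowers
        (QuotientGroup.mk g : ProjectiveSpecialLinearGroup (Fin 2) (ZMod p))) := by
      have hd : orderOf (QuotientGroup.mk g :
          ProjectiveSpecialLinearGroup (Fin 2) (ZMod p)) ∣ p ^ 1 := by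
        rw [pow_one]
        exact orderOf_dvd_of_pow_eq_one (by rw [← QuotientGroup.mk_pow, hg, QuotientGroup.mk_one])
      obtain ⟨j, -, hj⟩ := (Nat.dvd_prime_pow hp.out).1 hd
      exact IsPGroup.of_card (n := j) (by rw [Nat.card_zpowers, hj])
    obtain ⟨R, hR⟩ := hpg.exists_le_sylow
    rw [Subsingleton.elim P R]
    exact hR (Subgroup.mem_zpowers _)
  have hpow : ∀ n : ℕ, ((u ^ n : SpecialLinearGroup (Fin 2) (ZMod p)) : Matrix (Fin 2) (Fin 2) (ZMod p))
      = !![1, (n : ZMod p); 0, 1] ∧
      ((l ^ n : SpecialLinearGroup (Fin 2) (ZMod p)) : Matrix (Fin 2) (Fin 2) (ZMod p))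
      = !![1, 0; (n : ZMod p), 1] := by
    intro n
    induction n with
    | zero => exact ⟨by ext i j; fin_cases i <;> fin_cases j <;> simp,
        by ext i j; fin_cases i <;> fin_cases j <;> simp⟩
    | succ n ih =>
      constructor
      · show ((u ^ n : SpecialLinearGroup (Fin 2) (ZMod p)) : Matrix (Fin 2) (Fin 2) (ZMod p)) *
            (u : Matrix (Fin 2) (Fin 2) (ZMod p)) = _
        rw [ih.1]
        ext i j
        fin_cases i <;> fin_cases j <;>
          simp [u, Matrix.mul_apply, Fin.sum_univ_two, add_comm]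
      · show ((l ^ n : SpecialLinearGroup (Fin 2) (ZMod p)) : Matrix (Fin 2) (Fin 2) (ZMod p)) *
            (l : Matrix (Fin 2) (Fin 2) (ZMod p)) = _
        rw [ih.2]
        ext i j
        fin_cases i <;> fin_cases j <;>
          simp [l, Matrix.mul_apply, Fin.sum_univ_two, add_comm]
  have hu : u ^ p = 1 := Subtype.ext (by
    rw [(hpow p).1]; ext i j; fin_cases i <;> fin_cases j <;> simp)
  have hl : l ^ p = 1 := Subtype.ext (by
    rw [(hpow p).2]; ext i j; fin_cases i <;> fin_cases j <;> simp)
  haveI : IsCyclic (P : Subgroup (ProjectiveSpecialLinearGroup (Fin 2) (ZMod p))) :=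
    isCyclic_of_prime_card hP
  letI := IsCyclic.commGroup (α := (P : Subgroup (ProjectiveSpecialLinearGroup (Fin 2) (ZMod p))))
  have hcomm : (QuotientGroup.mk (u * l) : ProjectiveSpecialLinearGroup (Fin 2) (ZMod p)) =
      QuotientGroup.mk (l * u) :=
    congrArg Subtype.val (mul_comm (⟨_, hmem u hu⟩ : (P : Subgroup (ProjectiveSpecialLinearGroup (Fin 2) (ZMod p)))) ⟨_, hmem l hl⟩)
  have hcen : (u * l)⁻¹ * (l * u) ∈ Subgroup.center (SpecialLinearGroup (Fin 2) (ZMod p)) :=
    (QuotientGroup.eq (s := Subgroup.center (Matrix.SpecialLinearGroup (Fin 2) (ZMod p)))).1 hcomm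
  obtain ⟨r, -, hr⟩ := Matrix.SpecialLinearGroup.mem_center_iff.1 hcen
  have hmat : (((u * l : SpecialLinearGroup (Fin 2) (ZMod p))) : Matrix (Fin 2) (Fin 2) (ZMod p)) *
      Matrix.scalar (Fin 2) r = ((l * u : SpecialLinearGroup (Fin 2) (ZMod p)) : Matrix _ _ _) := by
    rw [hr]
    exact congrArg Subtype.val (mul_inv_cancel_left (u * l) (l * u))
  rw [Matrix.SpecialLinearGroup.coe_mul, Matrix.SpecialLinearGroup.coe_mul] at hmat
  have h01 := congrFun (congrFun hmat 0) 1
  have h00 := congrFun (congrFun hmat 0) 0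
  simp [u, l, Matrix.mul_apply, Fin.sum_univ_two, Matrix.scalar_apply] at h01 h00
  rw [h01] at h00
  exact one_ne_zero (α := ZMod p) (by linear_combination h00)

theorem exists_affine {m : ℕ} (hm : IsPrimePow m) (hm1 : m % p = 1) :
    ∃ (H : Type) (_ : Group H) (_ : Finite H), Nat.card H = p * m ∧ ¬ IsPClosed p H := by
  classical
  obtain ⟨q, k, hq, hk, rfl⟩ := hm
  haveI : Fact q.Prime := ⟨hq.nat_prime⟩
  let F := GaloisField q k
  haveI : Finite F := inferInstance
  haveI := Fintype.ofFinite F
  have hF : Nat.card F = q ^ k := GaloisField.card q k hk.ne'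
  have hdvd : p ∣ Nat.card Fˣ := by
    rw [Nat.card_units, hF]
    exact (Nat.modEq_iff_dvd' (Nat.one_le_pow _ _ hq.nat_prime.pos)).1
      (Nat.ModEq.symm (by rw [Nat.ModEq, hm1, Nat.mod_eq_of_lt hp.out.one_lt]))
  obtain ⟨u, hu⟩ := exists_prime_orderOf_dvd_card' (G := Fˣ) p hdvd
  let U := Subgroup.zpowers u
  let φ : U →* MulAut (Multiplicative F) :=
    { toFun := fun v => AddEquiv.toMultiplicative
        { toFun := fun x => ((v : Fˣ) : F) * x
          invFun := fun x => (((v : Fˣ)⁻¹ : Fˣ) : F) * x
          left_inv := fun x => by simp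
          right_inv := fun x => by simp
          map_add' := fun x y => mul_add _ _ _ }
      map_one' := MulEquiv.ext fun x => by
        show Multiplicative.ofAdd (((1 : U) : Fˣ) * Multiplicative.toAdd x : F) = x
        simp
      map_mul' := fun a b => MulEquiv.ext fun x => by
        show Multiplicative.ofAdd ((((a * b : U) : Fˣ) : F) * Multiplicative.toAdd x) =
          Multiplicative.ofAdd (((a : Fˣ) : F) * (((b : Fˣ) : F) * Multiplicative.toAdd x))
        simp [mul_assoc] }
  refine ⟨Multiplicative F ⋊[φ] U, inferInstance,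
    Finite.of_equiv _ SemidirectProduct.equivProd.symm, ?_, ?_⟩
  · rw [SemidirectProduct.card, Nat.card_zpowers, hu, Nat.card_congr Multiplicative.toAdd, hF,
      mul_comm]
  · intro hcl
    haveI : Finite (Multiplicative F ⋊[φ] U) := Finite.of_equiv _ SemidirectProduct.equivProd.symm
    set v : U := ⟨u, Subgroup.mem_zpowers u⟩ with hv
    set s : Multiplicative F ⋊[φ] U := SemidirectProduct.inr v with hs
    have hso : orderOf s = p := by
      rw [hs, orderOf_injective _ SemidirectProduct.inr_injective, ← Subgroup.orderOf_coe]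
      exact hu
    obtain ⟨P, hP⟩ := (IsPGroup.of_card (G := Subgroup.zpowers s) (n := 1)
      (by rw [Nat.card_zpowers, hso, pow_one])).exists_le_sylow
    have hnorm := hcl P
    set x : Multiplicative F := Multiplicative.ofAdd (1 : F) with hx
    have hmem : SemidirectProduct.inl x * s * (SemidirectProduct.inl x)⁻¹ * s⁻¹ ∈
        (P : Subgroup (Multiplicative F ⋊[φ] U)) :=
      mul_mem (hnorm.conj_mem _ (hP (Subgroup.mem_zpowers s)) _)
        (inv_mem (hP (Subgroup.mem_zpowers s)))
    have heq : SemidirectProduct.inl x * s * (SemidirectProduct.inl x)⁻¹ * s⁻¹ =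
        SemidirectProduct.inl (x * φ v x⁻¹) := by
      rw [map_mul, SemidirectProduct.inl_aut, ← hs, map_inv]
      simp only [mul_assoc, hs, map_inv]
    rw [heq] at hmem
    set y := x * φ v x⁻¹ with hy
    have hy1 : y ≠ 1 := by
      intro h
      have h' := congrArg Multiplicative.toAdd h
      change (1 : F) + ((u : F) * -(1 : F)) = 0 at h'
      have hu1 : (u : F) = 1 := by linear_combination -h'
      rw [Units.val_eq_one] at hu1
      rw [hu1, orderOf_one] at hu
      exact hp.out.ne_one hu.symm
    refine hy1 ?_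
    have hc : (Nat.card (Multiplicative F)).Coprime p := by
      rw [Nat.card_congr Multiplicative.toAdd, hF]
      exact ((Nat.coprime_primes hq.nat_prime hp.out).2 (fun h => by
        subst h
        rw [Nat.pow_mod, Nat.mod_self, zero_pow hk.ne'] at hm1
        simp at hm1)).pow_left k
    obtain ⟨j, hj⟩ := IsPGroup.iff_orderOf.1 P.isPGroup' ⟨_, hmem⟩
    rw [Subgroup.orderOf_mk, orderOf_injective _ SemidirectProduct.inl_injective] at hj
    have := Nat.Coprime.coprime_dvd_left (orderOf_dvd_natCard y) (hc.pow_right j)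
    rw [hj, Nat.coprime_self] at this
    exact orderOf_eq_one_iff.1 (hj.trans this)

end Cfsg.Agent.NonPClosed
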